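import Groth.Agent.Lib.FFDesc.Points
import Mathlib.AlgebraicGeometry.Morphisms.Flat
import Mathlib.AlgebraicGeometry.Morphisms.UnderlyingMap

/-!
# Descending a descent datum along an intermediate cover
-/

set_option autoImplicit false
set_option backward.isDefEq.respectTransparency false
set_option backward.isDefEq.respectTransparency.types false

universe u

open CategoryTheory CategoryTheory.Limits AlgebraicGeometry

namespace Groth.Agent.Lib.ZarRefine.Descend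

open Groth.Agent.Lib.FFDesc

variable {X Y S : Scheme.{u}} {σ : X ⟶ S} {π : Y ⟶ S} {r : X ⟶ Y} (hw : r ≫ π = σ)

include hw in
theorem rel_of_rel {T : Scheme.{u}} {x₀ x₁ : T ⟶ X} (h : x₀ ≫ r = x₁ ≫ r) : x₀ ≫ σ = x₁ ≫ σ := by
  rw [← hw, reassoc_of% h]

/-- The datum relative to `r` underlying a datum relative to `r ≫ π`. -/
def restr (D : Desc.SchDD σ) : Desc.SchDD r where
  obj := D.obj
  φ T x₀ x₁ h := D.φ x₀ x₁ (rel_of_rel hw h)
  φ_natural T T' g x₀ x₁ h h' v v' hv := D.φ_natural g x₀ x₁ (rel_of_rel hw h) (rel_of_rel hw h') v v' hv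
  φ_self T x v := D.φ_self x v
  φ_comp T x₀ x₁ x₂ h h' v := D.φ_comp x₀ x₁ x₂ (rel_of_rel hw h) (rel_of_rel hw h') v

include hw in
theorem tr_restr (D : Desc.SchDD σ) {T : Scheme.{u}} (v : T ⟶ D.obj.left) (x : T ⟶ X)
    (h : v ≫ D.obj.hom ≫ r = x ≫ r) :
    tr (restr hw D) v x h =
      tr D v x (by rw [← Category.assoc, rel_of_rel hw ((Category.assoc _ _ _).trans h)]) :=
  (φ_eq_tr (restr hw D) (v ≫ D.obj.hom) x ((Category.assoc _ _ _).trans h) ⟨v, rfl⟩).symm.trans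
    (φ_eq_tr D (v ≫ D.obj.hom) x _ ⟨v, rfl⟩)

variable [Flat r] [Surjective r] [LocallyOfFinitePresentation r] (D : Desc.SchDD σ) {T : Over Y}
  {q : D.obj.left ⟶ T.left} (H : IsDescended (restr hw D) T q)

include H in
theorem w_cover : D.obj.hom ≫ σ = q ≫ T.hom ≫ π := by
  subst hw
  have w : D.obj.hom ≫ r = q ≫ T.hom := H.isPullback.w
  exact (reassoc_of% w) π

/-- The cover of the points of the descended datum. -/
noncomputable def cov : V₂ D ⟶ pullback (T.hom ≫ π) π :=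
  pullback.map _ _ _ _ q r (𝟙 S) ((Category.comp_id _).trans (w_cover hw D H)) (by rw [Category.comp_id, hw])

theorem cov_fst : cov hw D H ≫ pullback.fst _ _ = pr D ≫ q := pullback.lift_fst _ _ _
theorem cov_snd : cov hw D H ≫ pullback.snd _ _ = pr₁ D ≫ r := pullback.lift_snd _ _ _

include H in
theorem cov_effectiveEpi : EffectiveEpi (cov hw D H) := by
  have : Flat q := MorphismProperty.of_isPullback H.isPullback ‹Flat r›
  have : Surjective q := MorphismProperty.of_isPullback H.isPullback ‹Surjective r›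
  have : LocallyOfFinitePresentation q :=
    MorphismProperty.of_isPullback H.isPullback ‹LocallyOfFinitePresentation r›
  have : Flat (cov hw D H) :=
    MorphismProperty.pullback_map (P := @Flat) ‹Flat q› ‹Flat r› (w_cover hw D H) hw.symm
  have : Surjective (cov hw D H) :=
    MorphismProperty.pullback_map (P := @Surjective) ‹Surjective q› ‹Surjective r› (w_cover hw D H) hw.symm
  have : LocallyOfFinitePresentation (cov hw D H) :=
    MorphismProperty.pullback_map (P := @LocallyOfFinitePresentation)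
      ‹LocallyOfFinitePresentation q› ‹LocallyOfFinitePresentation r› (w_cover hw D H) hw.symm
  exact (fpqcCover_of_lfp _).effectiveEpi

include H in
theorem inv_cov {T' : Scheme.{u}} (a b : T' ⟶ V₂ D) (h : a ≫ cov hw D H = b ≫ cov hw D H) :
    a ≫ act D ≫ q = b ≫ act D ≫ q := by
  have h₁ : (a ≫ pr D) ≫ q = (b ≫ pr D) ≫ q := by
    simpa [Category.assoc, cov_fst] using congrArg (· ≫ pullback.fst _ _) h
  have h₂ : (a ≫ pr₁ D) ≫ r = (b ≫ pr₁ D) ≫ r := by
    simpa [Category.assoc, cov_snd] using congrArg (· ≫ pullback.snd _ _) h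
  obtain ⟨h', hb⟩ := H.kernelPair (D := restr hw D) (a ≫ pr D) (b ≫ pr D) h₁
  have hb' : tr D (a ≫ pr D) ((b ≫ pr D) ≫ D.obj.hom) _ = b ≫ pr D := (tr_restr hw D _ _ h').symm.trans hb
  have pa : (a ≫ pr D) ≫ D.obj.hom ≫ σ = (a ≫ pr₁ D) ≫ σ := by
    rw [Category.assoc, Category.assoc]; exact congrArg (a ≫ ·) pullback.condition
  have pb : (b ≫ pr D) ≫ D.obj.hom ≫ σ = (b ≫ pr₁ D) ≫ σ := by
    rw [Category.assoc, Category.assoc]; exact congrArg (b ≫ ·) pullback.condition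
  have ea : a ≫ act D = tr D (a ≫ pr D) (a ≫ pr₁ D) pa :=
    (congrArg (a ≫ ·) (act_eq_tr D)).trans (comp_tr D a _ _ _)
  have eb : b ≫ act D = tr D (b ≫ pr D) (b ≫ pr₁ D) pb :=
    (congrArg (b ≫ ·) (act_eq_tr D)).trans (comp_tr D b _ _ _)
  have hh : tr D (a ≫ pr D) (a ≫ pr₁ D) pa ≫ D.obj.hom ≫ r = (b ≫ pr₁ D) ≫ r := by
    rw [tr_hom_assoc, h₂]
  have := H.tr_comp (restr hw D) (tr D (a ≫ pr D) (a ≫ pr₁ D) pa) (b ≫ pr₁ D) hh
  rw [tr_restr hw D, tr_tr] at this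
  rw [reassoc_of% ea, reassoc_of% eb, ← this]
  congr 1
  refine Eq.symm ((tr_congr D _ hb'.symm rfl).trans ?_)
  rw [tr_tr]

/-- The action of the descended datum. -/
noncomputable def actT : pullback (T.hom ≫ π) π ⟶ T.left :=
  haveI := cov_effectiveEpi hw D H
  EffectiveEpi.desc (cov hw D H) (act D ≫ q) (fun a b h => inv_cov hw D H a b h)

theorem cov_actT : cov hw D H ≫ actT hw D H = act D ≫ q :=
  haveI := cov_effectiveEpi hw D H
  EffectiveEpi.fac (cov hw D H) (act D ≫ q) _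

theorem actT_hom : actT hw D H ≫ T.hom = pullback.snd _ _ := by
  have := cov_effectiveEpi hw D H
  rw [← cancel_epi (cov hw D H), reassoc_of% cov_actT hw D H, cov_snd]
  have w : D.obj.hom ≫ r = q ≫ T.hom := H.isPullback.w
  rw [← w, act_hom_assoc]

/-- Transport for the descended datum. -/
noncomputable def trT {T' : Scheme.{u}} (v : T' ⟶ T.left) (x : T' ⟶ Y)
    (h : v ≫ T.hom ≫ π = x ≫ π) : T' ⟶ T.left :=
  pullback.lift v x h ≫ actT hw D H

theorem trT_hom {T' : Scheme.{u}} (v : T' ⟶ T.left) (x : T' ⟶ Y)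
    (h : v ≫ T.hom ≫ π = x ≫ π) : trT hw D H v x h ≫ T.hom = x := by
  rw [trT, Category.assoc, actT_hom, pullback.lift_snd]

theorem trT_congr {T' : Scheme.{u}} {v v' : T' ⟶ T.left} {x x' : T' ⟶ Y}
    (h : v ≫ T.hom ≫ π = x ≫ π) (hv : v = v') (hx : x = x') :
    trT hw D H v x h = trT hw D H v' x' (by rw [← hv, ← hx]; exact h) := by
  subst hv; subst hx; rfl

theorem comp_trT {T' T'' : Scheme.{u}} (g : T'' ⟶ T') (v : T' ⟶ T.left) (x : T' ⟶ Y)
    (h : v ≫ T.hom ≫ π = x ≫ π) :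
    g ≫ trT hw D H v x h = trT hw D H (g ≫ v) (g ≫ x) (by simp [h]) := by
  rw [trT, trT, ← Category.assoc]
  congr 1
  apply pullback.hom_ext <;> simp

theorem trT_cover {T' : Scheme.{u}} (e : T' ⟶ D.obj.left) (x : T' ⟶ X)
    (h : (e ≫ q) ≫ T.hom ≫ π = (x ≫ r) ≫ π) :
    trT hw D H (e ≫ q) (x ≫ r) h = tr D e x (by
      rw [w_cover hw D H]
      simpa [hw] using h) ≫ q := by
  rw [trT, tr, Category.assoc, ← cov_actT hw D H, ← Category.assoc]
  congr 1
  apply pullback.hom_ext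
  · rw [pullback.lift_fst, Category.assoc, cov_fst, pullback.lift_fst_assoc]
  · rw [pullback.lift_snd, Category.assoc, cov_snd, pullback.lift_snd_assoc]

theorem trT_self {T' : Scheme.{u}} (v : T' ⟶ T.left) :
    trT hw D H v (v ≫ T.hom) (by simp) = v := by
  have w : D.obj.hom ≫ r = q ≫ T.hom := H.isPullback.w
  have key : trT hw D H (𝟙 T.left) (T.hom) (by simp) = 𝟙 _ := by
    have := H.epi (fpqcCover_of_lfp r)
    refine (cancel_epi q).1 ?_
    rw [comp_trT]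
    refine Eq.trans ?_ (Category.comp_id q).symm
    refine ((trT_congr hw D H _ ((Category.comp_id q).trans (Category.id_comp q).symm)
      (show q ≫ T.hom = D.obj.hom ≫ r from w.symm))).trans ?_
    rw [trT_cover, tr_self D _ _ (Category.id_comp _), Category.id_comp]
  calc trT hw D H v (v ≫ T.hom) (by simp)
      = v ≫ trT hw D H (𝟙 T.left) T.hom (by simp) := by
        rw [comp_trT]; exact trT_congr hw D H _ (Category.comp_id _).symm rfl
    _ = v := by rw [key, Category.comp_id]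

theorem trT_trT {T' : Scheme.{u}} (v : T' ⟶ T.left) (x₁ x₂ : T' ⟶ Y)
    (h₁ : v ≫ T.hom ≫ π = x₁ ≫ π) (h₂ : x₁ ≫ π = x₂ ≫ π) :
    trT hw D H (trT hw D H v x₁ h₁) x₂ (by rw [← Category.assoc, trT_hom, h₂]) =
      trT hw D H v x₂ (h₁.trans h₂) := by
  have hr := fpqcCover_of_lfp r
  let g₁ := pullback.fst v q
  have e₁ : Epi g₁ := 
    haveI := (MorphismProperty.pullback_fst (P := fpqcCover) v q (H.cover hr)).effectiveEpi; inferInstance
  let g₂ := pullback.fst (g₁ ≫ x₁) r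
  have e₂ : Epi g₂ := 
    haveI := (MorphismProperty.pullback_fst (P := fpqcCover) (g₁ ≫ x₁) r hr).effectiveEpi; inferInstance
  let g₃ := pullback.fst (g₂ ≫ g₁ ≫ x₂) r
  have e₃ : Epi g₃ := 
    haveI := (MorphismProperty.pullback_fst (P := fpqcCover) (g₂ ≫ g₁ ≫ x₂) r hr).effectiveEpi; inferInstance
  rw [← cancel_epi g₁, ← cancel_epi g₂, ← cancel_epi g₃]
  simp only [comp_trT]
  let e := g₃ ≫ g₂ ≫ pullback.snd v q
  let y₁ := g₃ ≫ pullback.snd (g₁ ≫ x₁) r
  let y₂ := pullback.snd (g₂ ≫ g₁ ≫ x₂) r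
  have he : g₃ ≫ g₂ ≫ g₁ ≫ v = e ≫ q := by simp [e, g₁, pullback.condition]
  have hy₁ : g₃ ≫ g₂ ≫ g₁ ≫ x₁ = y₁ ≫ r := by simp [y₁, g₂, pullback.condition]
  have hy₂ : g₃ ≫ g₂ ≫ g₁ ≫ x₂ = y₂ ≫ r := by simp [y₂, g₃, pullback.condition]
  refine (trT_congr hw D H _ (trT_congr hw D H _ he hy₁) hy₂).trans
    (Eq.trans ?_ (trT_congr hw D H _ he hy₂).symm)
  refine (trT_congr hw D H _ (trT_cover hw D H _ _ _) rfl).trans ?_
  refine (trT_cover hw D H _ _ _).trans (Eq.trans ?_ (trT_cover hw D H _ _ _).symm)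
  rw [tr_tr]

/-- The map on points of the descended datum. -/
noncomputable def mapT {T' : Scheme.{u}} (x₀ x₁ : T' ⟶ Y) (h : x₀ ≫ π = x₁ ≫ π)
    (v : Desc.Lifts T x₀) : Desc.Lifts T x₁ :=
  ⟨trT hw D H v.1 x₁ (by rw [← Category.assoc, v.2, h]), trT_hom _ _ _ _ _ _⟩

theorem mapT_self {T' : Scheme.{u}} (x : T' ⟶ Y) (v : Desc.Lifts T x) : mapT hw D H x x rfl v = v := by
  obtain ⟨v, rfl⟩ := v
  exact Subtype.ext (trT_self hw D H v)

theorem mapT_comp {T' : Scheme.{u}} (x₀ x₁ x₂ : T' ⟶ Y) (h₀₁ : x₀ ≫ π = x₁ ≫ π)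
    (h₁₂ : x₁ ≫ π = x₂ ≫ π) (v : Desc.Lifts T x₀) :
    mapT hw D H x₁ x₂ h₁₂ (mapT hw D H x₀ x₁ h₀₁ v) = mapT hw D H x₀ x₂ (h₀₁.trans h₁₂) v :=
  Subtype.ext (trT_trT hw D H v.1 x₁ x₂ _ h₁₂)

/-- The descended datum relative to `π`. -/
noncomputable def datum : Desc.SchDD π where
  obj := T
  φ T' x₀ x₁ h :=
    { toFun := mapT hw D H x₀ x₁ h
      invFun := mapT hw D H x₁ x₀ h.symm
      left_inv := fun v ↦ by rw [mapT_comp, mapT_self]
      right_inv := fun v ↦ by rw [mapT_comp, mapT_self] }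
  φ_natural T' T'' g x₀ x₁ h h' v v' hv := by
    refine Eq.trans ?_ (comp_trT hw D H g v.1 x₁ _).symm
    exact trT_congr hw D H _ hv rfl
  φ_self T' x v := mapT_self hw D H x v
  φ_comp T' x₀ x₁ x₂ h₀₁ h₁₂ v := mapT_comp hw D H x₀ x₁ x₂ h₀₁ h₁₂ v

end Groth.Agent.Lib.ZarRefine.Descend
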