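import Groth.Agent.Lib.DescAlg.Effective.Opens

/-!
# Descent data along locally split covers are effective
-/

set_option autoImplicit false
set_option backward.isDefEq.respectTransparency false
set_option backward.isDefEq.respectTransparency.types false

universe u

open CategoryTheory CategoryTheory.Limits AlgebraicGeometry TopologicalSpace

namespace Groth.Agent.Lib.ZarRefine.LocSplit

open Groth.Agent.Lib.FFDesc

variable {X Y : Scheme.{u}} {r : X ⟶ Y}

/-- The part of a datum over an open of the base on which the cover has a section is descended. -/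
theorem exists_isDescended_sub (D : Desc.SchDD r) (W : Y.Opens) (s : (W : Scheme.{u}) ⟶ X)
    (hs : s ≫ r = W.ι) :
    ∃ (hO : Invariant D ((D.obj.hom ≫ r) ⁻¹ᵁ W)) (U : Over Y)
      (q : (((D.obj.hom ≫ r) ⁻¹ᵁ W : D.obj.left.Opens) : Scheme.{u}) ⟶ U.left),
      IsDescended (subDatum D hO) U q := by
  let h := D.obj.hom
  let O := (h ≫ r) ⁻¹ᵁ W
  have hact : act D ≫ h ≫ r = pr D ≫ h ≫ r := by
    rw [show act D ≫ h ≫ r = pr₁ D ≫ r from act_hom_assoc D r]
    exact pullback.condition.symm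
  have hO : Invariant D O := by
    show pr D ⁻¹ᵁ O = act D ⁻¹ᵁ O
    rw [← Scheme.Hom.comp_preimage, ← Scheme.Hom.comp_preimage, hact]
  let toW : (O : Scheme.{u}) ⟶ W := (h ≫ r) ∣_ W
  have htoW : toW ≫ W.ι = O.ι ≫ h ≫ r := morphismRestrict_ι _ _
  let x : (O : Scheme.{u}) ⟶ X := toW ≫ s
  have hx : O.ι ≫ h ≫ r = x ≫ r := by rw [Category.assoc, hs, htoW]
  let U : Over Y := Over.mk (pullback.snd h s ≫ W.ι)
  let q : (O : Scheme.{u}) ⟶ U.left := pullback.lift (tr D O.ι x hx) toW (tr_hom _ _ _ _)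
  have hq₁ : q ≫ pullback.fst h s = tr D O.ι x hx := pullback.lift_fst _ _ _
  have hq₂ : q ≫ pullback.snd h s = toW := pullback.lift_snd _ _ _
  refine ⟨hO, U, q, ?_, ?_⟩
  · have w : (O.ι ≫ h) ≫ r = q ≫ U.hom := by
      show _ = q ≫ pullback.snd h s ≫ W.ι
      rw [reassoc_of% hq₂, htoW, Category.assoc]
    have ha : ∀ c : PullbackCone r U.hom,
        (c.snd ≫ pullback.fst h s) ≫ h ≫ r = c.fst ≫ r := fun c => by
      rw [Category.assoc, pullback.condition_assoc, hs]
      exact c.condition.symm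
    have hr : ∀ c : PullbackCone r U.hom,
        Set.range (tr D (c.snd ≫ pullback.fst h s) c.fst (ha c)) ⊆ Set.range O.ι := fun c => by
      rw [Scheme.Opens.range_ι]
      rintro _ ⟨t, rfl⟩
      show (h ≫ r) (tr D (c.snd ≫ pullback.fst h s) c.fst (ha c) t) ∈ W
      have e : tr D (c.snd ≫ pullback.fst h s) c.fst (ha c) ≫ h ≫ r =
          (c.snd ≫ pullback.snd h s) ≫ W.ι := by
        rw [tr_hom_assoc]
        exact c.condition.trans (Category.assoc _ _ _).symm
      rw [← Scheme.Hom.comp_apply, e, Scheme.Hom.comp_apply]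
      exact ((c.snd ≫ pullback.snd h s) t).2
    let l : ∀ c : PullbackCone r U.hom, c.pt ⟶ (O : Scheme.{u}) := fun c =>
      IsOpenImmersion.lift O.ι _ (hr c)
    have hl : ∀ c, l c ≫ O.ι = tr D (c.snd ≫ pullback.fst h s) c.fst (ha c) := fun c =>
      IsOpenImmersion.lift_fac _ _ _
    have hlW : ∀ c, l c ≫ toW = c.snd ≫ pullback.snd h s := fun c => by
      rw [← cancel_mono W.ι, Category.assoc, htoW, reassoc_of% hl c, tr_hom_assoc, Category.assoc]
      exact c.condition
    refine IsPullback.of_isLimit' ⟨w⟩ (PullbackCone.IsLimit.mk w l ?_ ?_ ?_)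
    · intro c
      rw [reassoc_of% hl c, tr_hom]
    · intro c
      refine pullback.hom_ext ?_ (by rw [Category.assoc, hq₂, hlW])
      rw [Category.assoc, hq₁, comp_tr]
      refine (tr_congr D _ (hl c) rfl).trans ?_
      rw [tr_tr]
      refine tr_self D _ _ ?_
      rw [Category.assoc, pullback.condition, ← Category.assoc, ← hlW c, Category.assoc]
    · intro c m h₁ h₂
      refine (cancel_mono O.ι).1 ?_
      rw [hl c]
      have e : c.snd ≫ pullback.fst h s = tr D (m ≫ O.ι) (m ≫ x)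
          (by rw [Category.assoc, hx]; simp only [x, Category.assoc]) := by
        rw [← h₂, Category.assoc, hq₁, comp_tr]
      refine Eq.symm ((tr_congr D _ e rfl).trans ?_)
      rw [tr_tr]
      exact tr_self D _ _ ((Category.assoc _ _ _).trans h₁)
  · let v : V₂ (subDatum D hO) ⟶ (O : Scheme.{u}) := pr (subDatum D hO)
    let x₁ := pr₁ (subDatum D hO)
    have hv : v ≫ (O.ι ≫ h) ≫ r = x₁ ≫ r := pullback.condition
    have e : act (subDatum D hO) ≫ O.ι = tr D (v ≫ O.ι) x₁ (by simpa using hv) :=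
      (congrArg (· ≫ O.ι) (act_eq_tr (subDatum D hO))).trans (subDatum_tr_ι D hO v x₁ hv)
    have eW : act (subDatum D hO) ≫ toW = v ≫ toW := by
      rw [← cancel_mono W.ι, Category.assoc, Category.assoc, htoW, reassoc_of% e, tr_hom_assoc]
      simpa using hv.symm
    refine pullback.hom_ext ?_ (by rw [Category.assoc, Category.assoc, hq₂, eW])
    rw [Category.assoc, Category.assoc, hq₁, comp_tr, comp_tr]
    refine Eq.symm ((tr_congr D _ e (?_ : act (subDatum D hO) ≫ x = v ≫ x)).trans ?_)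
    · rw [reassoc_of% eW]
    · rw [tr_tr]

/-- Descent data along an fpqc cover which is split locally on the base are effective. -/
theorem exists_isDescended (hr : fpqcCover r)
    (hs : ∀ y : Y, ∃ (W : Y.Opens) (s : (W : Scheme.{u}) ⟶ X), y ∈ W ∧ s ≫ r = W.ι)
    (D : Desc.SchDD r) : ∃ (U : Over Y) (q : D.obj.left ⟶ U.left), IsDescended D U q := by
  obtain ⟨U, ⟨e⟩⟩ := DescAlg.Effective.Opens.exists_of_subdata hr D fun v => by
    obtain ⟨W, s, hv, hs⟩ := hs ((D.obj.hom ≫ r) v)
    obtain ⟨hO, U, q, H⟩ := exists_isDescended_sub D W s hs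
    refine ⟨subDatum D hO, ⟨Over.homMk (((D.obj.hom ≫ r) ⁻¹ᵁ W).ι) rfl, ?_⟩, ?_, ?_, H.exists_iso⟩
    · intro T x₀ x₁ h a b hb
      refine Eq.trans ?_ (subMap_ι D hO x₀ x₁ h a).symm
      exact congrArg (fun z => (D.φ x₀ x₁ h z).1) (Subtype.ext hb)
    · show IsOpenImmersion ((D.obj.hom ≫ r) ⁻¹ᵁ W).ι
      infer_instance
    · show v ∈ Set.range ((D.obj.hom ≫ r) ⁻¹ᵁ W).ι
      rw [Scheme.Opens.range_ι]
      exact hv
  exact ⟨U, _, exists_isDescended_of_iso D e⟩

end Groth.Agent.Lib.ZarRefine.LocSplit
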