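import Groth.Agent.Lib.ZarRefine.LocSplit
import Groth.Agent.Lib.ZarRefine.Descend
import Groth.Agent.Lib.DescAlg.Sigma.Family
import Mathlib.AlgebraicGeometry.Morphisms.FlatDescent

/-!
# Zariski refinements induce equivalences of descent data
-/

set_option autoImplicit false
set_option backward.isDefEq.respectTransparency false
set_option backward.isDefEq.respectTransparency.types false

universe u

open CategoryTheory CategoryTheory.Limits AlgebraicGeometry Desc

namespace Groth.Agent.Lib.ZarRefine.Main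

open Groth.Agent.Lib DescAlg.DDFam.Basic

variable {X Y S : Scheme.{u}} {σ : X ⟶ S} {π : Y ⟶ S} {r : X ⟶ Y} (hw : r ≫ π = σ)
  [Flat r] [Surjective r] [LocallyOfFinitePresentation r]

include hw in
theorem one_w (_ : PUnit.{u + 1}) : r ≫ π = σ ≫ 𝟙 S := hw.trans (Category.comp_id σ).symm

/-- Pulling the descended datum back gives the datum. -/
noncomputable def datumIso (D : SchDD σ) {T : Over Y} {q : D.obj.left ⟶ T.left}
    (H : FFDesc.IsDescended (Descend.restr hw D) T q) :
    (pullDDFam (f := fun _ : PUnit.{u + 1} => π) (f' := fun _ : PUnit.{u + 1} => σ) (α := fun j => j)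
      (p := 𝟙 S) (p' := fun _ => r) (one_w hw)).obj
      ((SchDDFam.ofSchDD π).obj (Descend.datum hw D H)) ≅ (SchDDFam.ofSchDD σ).obj D :=
  have Hp : IsPullback q D.obj.hom T.hom r := H.isPullback.flip
  mkIso (fun _ => Over.isoMk Hp.isoPullback.symm Hp.isoPullback_inv_snd)
    (fun T' i j x₀ x₁ hx v w hv => by
      simp only [Over.isoMk_hom_left, Iso.symm_hom] at hv ⊢
      dsimp [pullDDFam, pullDDFamObj, SchDDFam.ofSchDD] at hv ⊢
      have hvq : w.1 ≫ q = v.1 ≫ pullback.fst T.hom r := by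
        rw [hv, Category.assoc, IsPullback.isoPullback_inv_fst]
      refine Hp.hom_ext ?_ ?_
      · rw [Category.assoc, IsPullback.isoPullback_inv_fst]
        simp only [liftsPullbackEquiv, Equiv.coe_fn_mk, Equiv.coe_fn_symm_mk]
        refine Eq.trans ?_ (pullback.lift_fst _ _ _).symm
        refine ((congrArg (· ≫ q) (FFDesc.φ_eq_tr D x₀ x₁ hx w)).trans
          (Descend.trT_cover hw D H w.1 x₁ ?_).symm).trans
          (Descend.trT_congr hw D H _ hvq rfl)
        have hv0 : v.1 ≫ pullback.snd T.hom r = x₀ := v.2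
        rw [hvq, Category.assoc, pullback.condition_assoc, reassoc_of% hv0, Category.assoc, hw]
        exact hx
      · rw [(D.φ x₀ x₁ hx w).2, Category.assoc, IsPullback.isoPullback_inv_snd]
        exact (pullback.lift_snd _ _ _).symm)

variable {ι κ : Type u} {U : ι → Scheme.{u}} {V : κ → Scheme.{u}}
  (u : ∀ i, U i ⟶ S) (v : ∀ j, V j ⟶ S) (α : ι → κ) (g : ∀ i, U i ⟶ V (α i))
  (w : ∀ i, g i ≫ v (α i) = u i)

/-- The map of coproducts. -/
noncomputable abbrev sigmaMap : ∐ U ⟶ ∐ V := Sigma.desc fun i => g i ≫ Sigma.ι V (α i)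

include w in
theorem sigmaMap_w : sigmaMap α g ≫ Sigma.desc v = Sigma.desc u :=
  Limits.Sigma.hom_ext _ _ fun i => by simp [w]

include w in
/-- Zariski refinements induce equivalences of descent data. -/
theorem isEquivalence
    (hcov : ∀ j, Presieve.ofArrows (fun i : {i // α i = j} => U i.1)
      (fun i => g i.1 ≫ eqToHom (congrArg V i.2)) ∈ Scheme.zariskiPrecoverage (V j))
    (hff : (pullDDFam (f := v) (f' := u) (α := α) (p := 𝟙 S) (p' := g)
        (fun i => (w i).trans (Category.comp_id (u i)).symm)).Full ∧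
      (pullDDFam (f := v) (f' := u) (α := α) (p := 𝟙 S) (p' := g)
        (fun i => (w i).trans (Category.comp_id (u i)).symm)).Faithful) :
    (pullDDFam (f := v) (f' := u) (α := α) (p := 𝟙 S) (p' := g)
      (fun i => (w i).trans (Category.comp_id (u i)).symm)).IsEquivalence := by
  let r := sigmaMap α g
  have hw : r ≫ Sigma.desc v = Sigma.desc u := sigmaMap_w u v α g w
  have hg : ∀ i, IsOpenImmersion (g i) := fun i => by
    have := ((Scheme.ofArrows_mem_precoverage_iff (P := @IsOpenImmersion)).1 (hcov (α i))).2 ⟨i, rfl⟩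
    simpa using this
  have hsur : ∀ y : ↥(∐ V), ∃ (i : ι) (z : U i), (g i ≫ Sigma.ι V (α i)) z = y := fun y => by
    obtain ⟨j, t, rfl⟩ := (sigmaOpenCover V).exists_eq y
    obtain ⟨⟨i, rfl⟩, z, hz⟩ := ((Scheme.ofArrows_mem_precoverage_iff (P := @IsOpenImmersion)).1 (hcov j)).1 t
    refine ⟨i, z, ?_⟩
    rw [Scheme.Hom.comp_apply]
    exact congrArg (Sigma.ι V (α i)) (by simpa using hz)
  haveI : Surjective r := ⟨fun y => by
    obtain ⟨i, z, hz⟩ := hsur y
    exact ⟨Sigma.ι U i z, by rw [← Scheme.Hom.comp_apply, Sigma.ι_desc]; exact hz⟩⟩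
  haveI : Flat r := IsZariskiLocalAtSource.sigmaDesc fun i => inferInstance
  haveI : LocallyOfFinitePresentation r := IsZariskiLocalAtSource.sigmaDesc fun i => inferInstance
  have hsec : ∀ y : ↥(∐ V), ∃ (W : (∐ V).Opens) (s : (W : Scheme.{u}) ⟶ ∐ U), y ∈ W ∧ s ≫ r = W.ι := by
    intro y
    obtain ⟨i, z, hz⟩ := hsur y
    let f := g i ≫ Sigma.ι V (α i)
    refine ⟨f.opensRange, IsOpenImmersion.lift f f.opensRange.ι (by
      rw [Scheme.Opens.range_ι]; rfl) ≫ Sigma.ι U i, ⟨z, hz⟩, ?_⟩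
    rw [Category.assoc, Sigma.ι_desc]
    exact IsOpenImmersion.lift_fac _ _ _
  let F := pullDDFam (f := v) (f' := u) (α := α) (p := 𝟙 S) (p' := g)
    (fun i => (w i).trans (Category.comp_id (u i)).symm)
  have := hff.1
  have := hff.2
  have : F.EssSurj := ⟨fun D' => by
    have := DescAlg.Sigma.Family.isEquivalence u
    let E := DescAlg.Sigma.Family.datum D'
    obtain ⟨T, q, H⟩ := LocSplit.exists_isDescended (FFDesc.fpqcCover_of_lfp r) hsec (Descend.restr hw E)
    let Pu := pullDDFam (f := fun _ : PUnit.{u + 1} => Sigma.desc u) (f' := u) (α := fun _ ↦ PUnit.unit)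
      (p := 𝟙 S) (p' := fun i ↦ Sigma.ι U i) (DescAlg.Sigma.Family.ι_w (u := u))
    let Pv := pullDDFam (f := fun _ : PUnit.{u + 1} => Sigma.desc v) (f' := v) (α := fun _ ↦ PUnit.unit)
      (p := 𝟙 S) (p' := fun i ↦ Sigma.ι V i) (DescAlg.Sigma.Family.ι_w (u := v))
    let DT := (SchDDFam.ofSchDD (Sigma.desc v)).obj (Descend.datum hw E H)
    refine ⟨Pv.obj DT, ⟨?_⟩⟩
    let c₁ := compIso (f := fun _ : PUnit.{u + 1} => Sigma.desc v) (f' := v) (f'' := u)
      (α := fun _ : κ => PUnit.unit.{u + 1}) (β := α) (p := 𝟙 S) (q := 𝟙 S) (p' := fun j ↦ Sigma.ι V j) (q' := g)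
      (DescAlg.Sigma.Family.ι_w (u := v)) (fun i => (w i).trans (Category.comp_id (u i)).symm)
    let c₂ := compIso (f := fun _ : PUnit.{u + 1} => Sigma.desc v) (f' := fun _ : PUnit.{u + 1} => Sigma.desc u)
      (f'' := u) (α := fun j : PUnit.{u + 1} => j) (β := fun _ : ι => PUnit.unit.{u + 1}) (p := 𝟙 S) (q := 𝟙 S)
      (p' := fun _ => r) (q' := fun i ↦ Sigma.ι U i) (one_w hw) (DescAlg.Sigma.Family.ι_w (u := u))
    let h := homotopyIso (f := fun _ : PUnit.{u + 1} => Sigma.desc v) (f' := u)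
      (α := fun _ : ι => PUnit.unit.{u + 1}) (β := fun _ : ι => PUnit.unit.{u + 1}) (p := 𝟙 S ≫ 𝟙 S) (q := 𝟙 S ≫ 𝟙 S)
      (p' := fun i ↦ g i ≫ Sigma.ι V (α i)) (q' := fun i ↦ Sigma.ι U i ≫ r)
      (fun i => by simp [w]) (fun i => by simp [hw]) rfl
    exact c₁.app DT ≪≫ h.app DT ≪≫ (c₂.app DT).symm ≪≫
      Pu.mapIso (datumIso hw E H) ≪≫ DescAlg.Sigma.Family.restrictIso D'⟩
  exact { }

end Groth.Agent.Lib.ZarRefine.Main
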